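import Groth.Prelude.Def_Magnet3
import Groth.Prelude.Def_ActBC

/-!
# Iterated base change of actions
-/

set_option autoImplicit false
universe u

open CategoryTheory CategoryTheory.Limits MonoidalCategory CartesianMonoidalCategory MonObj AlgebraicGeometry Opposite
open Magnet

noncomputable section

namespace Groth.Agent.AttrBcLib

variable {S S' S'' : Scheme.{u}} (f : S'' ⟶ S') (g : S' ⟶ S) {d : S'' ⟶ S} (h : f ≫ g = d) {A X Y : Over S}

theorem tensor_bcCompIso_μ :
    ((ActBC.bcCompIso f g A h).hom ⊗ₘ (ActBC.bcCompIso f g X h).hom) ≫ Functor.LaxMonoidal.μ (Over.pullback d) A X =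
      Functor.LaxMonoidal.μ (Over.pullback f) (Red.bc g A) (Red.bc g X) ≫
        (Over.pullback f).map (Functor.LaxMonoidal.μ (Over.pullback g) A X) ≫ (ActBC.bcCompIso f g (A ⊗ X) h).hom := by
  rw [← cancel_mono (Functor.OplaxMonoidal.δ (Over.pullback d) A X)]
  apply CartesianMonoidalCategory.hom_ext
  · simp only [Category.assoc, Functor.Monoidal.μ_δ, Category.comp_id, Functor.OplaxMonoidal.δ_fst,
      tensorHom_fst, ← ActBC.bcCompIso_hom_naturality]
    rw [← Functor.map_comp_assoc, Functor.Monoidal.μ_fst, Functor.Monoidal.μ_fst_assoc]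
  · simp only [Category.assoc, Functor.Monoidal.μ_δ, Category.comp_id, Functor.OplaxMonoidal.δ_snd,
      tensorHom_snd, ← ActBC.bcCompIso_hom_naturality]
    rw [← Functor.map_comp_assoc, Functor.Monoidal.μ_snd, Functor.Monoidal.μ_snd_assoc]

variable [MonObj A]

theorem bc_bc_act (a : MonAct A X) :
    ((ActBC.bcCompIso f g A h).hom ⊗ₘ (ActBC.bcCompIso f g X h).hom) ≫ (a.bc d).act =
      ((a.bc g).bc f).act ≫ (ActBC.bcCompIso f g X h).hom := by
  rw [MonAct.bc_act, reassoc_of% (tensor_bcCompIso_μ f g h (A := A) (X := X)), ← ActBC.bcCompIso_hom_naturality,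
    MonAct.bc_act, MonAct.bc_act, Functor.map_comp]
  simp only [Category.assoc]

theorem isEquivariant_conj_iff (a : MonAct A X) (b : MonAct A Y)
    (ψ : Red.bc f (Red.bc g X) ⟶ Red.bc f (Red.bc g Y)) (φ : Red.bc d X ⟶ Red.bc d Y)
    (e : ψ ≫ (ActBC.bcCompIso f g Y h).hom = (ActBC.bcCompIso f g X h).hom ≫ φ) :
    MonAct.IsEquivariant ((a.bc g).bc f) ((b.bc g).bc f) ψ ↔ MonAct.IsEquivariant (a.bc d) (b.bc d) φ := by
  have key : (Red.bc f (Red.bc g A) ◁ ψ) ≫ ((ActBC.bcCompIso f g A h).hom ⊗ₘ (ActBC.bcCompIso f g Y h).hom) =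
      ((ActBC.bcCompIso f g A h).hom ⊗ₘ (ActBC.bcCompIso f g X h).hom) ≫ (Red.bc d A ◁ φ) := by
    apply CartesianMonoidalCategory.hom_ext <;> simp [e]
  constructor <;> intro he <;> unfold MonAct.IsEquivariant at he ⊢
  · rw [← cancel_epi ((ActBC.bcCompIso f g A h).hom ⊗ₘ (ActBC.bcCompIso f g X h).hom), ← Category.assoc,
      bc_bc_act f g h a, Category.assoc, ← e, ← Category.assoc, he, Category.assoc, ← bc_bc_act f g h b,
      ← Category.assoc, key, Category.assoc]
  · rw [← cancel_mono (ActBC.bcCompIso f g Y h).hom, Category.assoc, e, ← Category.assoc, ← bc_bc_act f g h a,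
      Category.assoc, he, Category.assoc, ← bc_bc_act f g h b, ← Category.assoc, ← key, Category.assoc]

theorem exists_equiv (T : Over S) (T'' : Over T.left) {B : Over S} (ρ : MonAct A B) (a : MonAct A X) :
    ∃ Φ : (MonAct.eqvHom ρ a).obj (op ((Over.map T.hom).obj T'')) ≃
        (MonAct.eqvHom (ρ.bc T.hom) (a.bc T.hom)).obj (op T''),
      ∀ φ, (eqvHomEquivBc T'' (ρ.bc T.hom) (a.bc T.hom) (Φ φ)).1 ≫ (ActBC.bcCompIso T''.hom T.hom X rfl).hom =
        (ActBC.bcCompIso T''.hom T.hom B rfl).hom ≫ (eqvHomEquivBc ((Over.map T.hom).obj T'') ρ a φ).1 := by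
  let cB := ActBC.bcCompIso T''.hom T.hom B (d := ((Over.map T.hom).obj T'').hom) rfl
  let cX := ActBC.bcCompIso T''.hom T.hom X (d := ((Over.map T.hom).obj T'').hom) rfl
  let E : { ψ // MonAct.IsEquivariant (ρ.bc ((Over.map T.hom).obj T'').hom) (a.bc ((Over.map T.hom).obj T'').hom) ψ } ≃
      { ψ // MonAct.IsEquivariant ((ρ.bc T.hom).bc T''.hom) ((a.bc T.hom).bc T''.hom) ψ } :=
    { toFun := fun φ => ⟨cB.hom ≫ φ.1 ≫ cX.inv, (isEquivariant_conj_iff T''.hom T.hom rfl ρ a _ φ.1 (by simp [cB, cX])).2 φ.2⟩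
      invFun := fun ψ => ⟨cB.inv ≫ ψ.1 ≫ cX.hom, (isEquivariant_conj_iff T''.hom T.hom rfl ρ a ψ.1 _ (by simp [cB, cX])).1 ψ.2⟩
      left_inv := fun φ => Subtype.ext (by simp)
      right_inv := fun ψ => Subtype.ext (by simp) }
  refine ⟨(eqvHomEquivBc _ ρ a).trans (E.trans (eqvHomEquivBc T'' (ρ.bc T.hom) (a.bc T.hom)).symm), fun φ => ?_⟩
  simp only [Equiv.trans_apply, Equiv.apply_symm_apply]
  simp [E, cB, cX]

end Groth.Agent.AttrBcLib

end
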